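import Cfsg.Agent.CosetCert.J4M24S.Defs

/-! Generated: kernel checks. -/

set_option Elab.async false

namespace Cfsg.Agent.CosetCert.J4M24S

theorem coset_okAt0 : allFrom data.checkCoset 0 750 = true := by decide +kernel

theorem coset_okAt750 : allFrom data.checkCoset 750 750 = true := by decide +kernel

theorem coset_okAt1500 : allFrom data.checkCoset 1500 750 = true := by decide +kernel

theorem coset_okAt2250 : allFrom data.checkCoset 2250 750 = true := by decide +kernel

theorem coset_okAt3000 : allFrom data.checkCoset 3000 750 = true := by decide +kernel

theorem coset_okAt3750 : allFrom data.checkCoset 3750 750 = true := by decide +kernel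

theorem coset_okAt4500 : allFrom data.checkCoset 4500 750 = true := by decide +kernel

theorem coset_okAt5250 : allFrom data.checkCoset 5250 510 = true := by decide +kernel

end Cfsg.Agent.CosetCert.J4M24S
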